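import Mathlib
import Cfsg.Agent.Lib.CharTheory.Average
import Cfsg.Agent.Lib.CharTheory.ExtendChar
import Cfsg.Agent.Lib.CharTheory.Ito
import Cfsg.Agent.Lib.Coprime.SchurZassenhaus

/-!
# Characters on the cosets of a normal subgroup, and the regular elements of a coset
-/

set_option autoImplicit false
set_option linter.style.haveILetI false
set_option linter.unusedSectionVars false

namespace Cfsg.Agent.CharTheory.RegularSupport

open Cfsg.Agent.Characters Cfsg.Agent.CharTheory
open scoped ComplexConjugate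

universe u

variable {G : Type u} [Group G] [Finite G]

section Chars

variable [Fintype G] (N : Subgroup G) [Fintype N] [hN : N.Normal]

/-- The squared norms of an irreducible extension over a coset sum to the order of the subgroup. -/
theorem sum_coset_norm {χ : G → ℂ} (hχ : Cfsg.IsIrrCharacter G χ)
    (hχN : Cfsg.IsIrrCharacter N (fun n : N => χ n)) (g : G) :
    ∑ n : N, χ ((n : G) * g) * conj (χ ((n : G) * g)) = (Nat.card N : ℂ) := by
  have h := congrFun (Average.quotChar_self N hχ hχN) g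
  rw [Average.quotChar_apply] at h
  have h0 : (Nat.card N : ℂ) ≠ 0 := Nat.cast_ne_zero.mpr Nat.card_pos.ne'
  rwa [inv_mul_eq_one₀ h0, eq_comm] at h

/-- Orthogonality on every coset. -/
theorem sum_coset_orth {χ Φ : G → ℂ} (hχ : Cfsg.IsCharacter G χ) (hΦ : Cfsg.IsCharacter G Φ)
    (h : Cfsg.classInner (fun n : N => Φ n) (fun n : N => χ n) = 0) (g : G) :
    ∑ n : N, Φ ((n : G) * g) * conj (χ ((n : G) * g)) = 0 := by
  obtain ⟨k, ρ, hρ⟩ := Average.isCharacter_quotChar N hχ hΦ
  have hdeg : (k : ℂ) = 0 := by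
    rw [← Average.quotChar_one N χ Φ] at h
    rw [← hρ, ρ.char_one, Module.finrank_fin_fun] at h
    exact h
  have hk : k = 0 := Nat.cast_eq_zero.1 hdeg
  have h2 : Average.quotChar N χ Φ g = 0 := by
    subst hk
    rw [← hρ, Representation.character]
    exact (congrArg _ (LinearMap.ext fun v => Subsingleton.elim _ _)).trans (map_zero _)
  rw [Average.quotChar_apply, mul_eq_zero] at h2
  exact h2.resolve_left (inv_ne_zero (Nat.cast_ne_zero.mpr Nat.card_pos.ne'))

/-- A character living over `χ|N` is proportional to `χ` on each coset. -/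
theorem quotChar_mul_eq {χ Φ : G → ℂ} (hχ : Cfsg.IsIrrCharacter G χ)
    (hχN : Cfsg.IsIrrCharacter N (fun n : N => χ n)) (hΦ : Cfsg.IsCharacter G Φ) {c : ℂ}
    (hc : ∀ n : N, Φ n = c * χ n) : Average.quotChar N χ Φ * χ = Φ := by
  classical
  haveI := Fintype.ofFinite (Cfsg.IrrCharacter G)
  obtain ⟨m, hm⟩ := char_eq_sum_nat hΦ
  have hover : ∀ β : Cfsg.IrrCharacter G, m β ≠ 0 →
      Cfsg.classInner (fun n : N => (β : G → ℂ) n) (fun n : N => χ n) ≠ 0 := by
    intro β hβ h0
    obtain ⟨φ, hφ, hne⟩ := Ito.exists_constituent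
      (isCharacter_comp N.subtype (irr_isCharacter β))
      (show ((fun n : N => (β : G → ℂ) n) : N → ℂ) 1 ≠ 0 by simpa using irr_one_ne_zero β.2)
    have hΦβ : Cfsg.classInner Φ (β : G → ℂ) ≠ 0 := by
      rw [hm, classInner_sum_left, Finset.sum_eq_single β]
      · rw [classInner_smul_left, classInner_irr, if_pos rfl, mul_one]
        exact Nat.cast_ne_zero.2 hβ
      · intro b _ hb
        rw [classInner_smul_left, classInner_irr, if_neg hb, mul_zero]
      · simp
    have h2 := Clifford.classInner_restrict_ne_zero N hΦ β.2 (isCharacter_of_isIrr hφ) hΦβ hne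
    rw [show (fun n : N => Φ n) = c • (fun n : N => χ n) from funext hc, classInner_smul_left,
      mul_ne_zero_iff] at h2
    have h3 : φ = fun n : N => χ n := by
      by_contra hne'
      exact h2.2 (classInner_isIrr_ne hχN hφ (Ne.symm hne'))
    exact hne (h3 ▸ h0)
  have hlin : Average.quotChar N χ Φ =
      ∑ β : Cfsg.IrrCharacter G, (m β : ℂ) • Average.quotChar N χ (β : G → ℂ) := by
    have he : (fun g => Φ g * conj (χ g)) =
        ∑ β : Cfsg.IrrCharacter G, (m β : ℂ) • fun g => (β : G → ℂ) g * conj (χ g) := by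
      funext g
      conv_lhs => rw [hm]
      simp [Finset.sum_apply, Finset.sum_mul, mul_assoc]
    rw [Average.quotChar, he, Average.avg_sum_smul]
    rfl
  rw [hlin, Finset.sum_mul]
  conv_rhs => rw [hm]
  refine Finset.sum_congr rfl fun β _ => ?_
  rcases eq_or_ne (m β) 0 with h0 | h0
  · simp [h0]
  · rw [smul_mul_assoc, (Average.gallagher N hχ hχN β.2 (hover β h0)).2]

end Chars

/-- Two regular elements of a coset of `L` are conjugate under `L` modulo `K`, when `L / K` is a
`p`-group. -/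
theorem exists_conj_mem_coset {p : ℕ} [hp : Fact p.Prime] (L K : Subgroup G) [L.Normal] [K.Normal]
    (hKL : K ≤ L) (hLK : IsPGroup p (L.map (QuotientGroup.mk' K))) {g x : G}
    (hg : ¬ p ∣ orderOf g) (hx : ¬ p ∣ orderOf x) (hxg : x * g⁻¹ ∈ L) :
    ∃ n ∈ L, n * g * n⁻¹ * x⁻¹ ∈ K := by
  set π := QuotientGroup.mk' K with hπ
  set Lb := L.map π with hLb
  haveI : Lb.Normal := Subgroup.Normal.map inferInstance π (QuotientGroup.mk'_surjective K)
  have hreg : ∀ y : G, ¬ p ∣ orderOf y → (Nat.card Lb).Coprime (Nat.card (Subgroup.zpowers (π y))) := by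
    intro y hy
    obtain ⟨k, hk⟩ := IsPGroup.iff_card.1 hLK
    rw [hk, Nat.card_zpowers]
    exact (hp.out.coprime_iff_not_dvd.2 fun h => hy (h.trans (orderOf_map_dvd π y))).pow_left k
  have hd : π x * (π g)⁻¹ ∈ Lb := by
    rw [← map_inv, ← map_mul]; exact Subgroup.mem_map_of_mem π hxg
  have heq : Lb ⊔ Subgroup.zpowers (π g) = Lb ⊔ Subgroup.zpowers (π x) := by
    refine le_antisymm (sup_le le_sup_left ?_) (sup_le le_sup_left ?_) <;> rw [Subgroup.zpowers_le]
    · have : π g = (π x * (π g)⁻¹)⁻¹ * π x := by group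
      rw [this]
      exact Subgroup.mul_mem_sup (Lb.inv_mem hd) (Subgroup.mem_zpowers _)
    · have : π x = (π x * (π g)⁻¹) * π g := by group
      rw [this]
      exact Subgroup.mul_mem_sup hd (Subgroup.mem_zpowers _)
  have hnorm : ∀ H : Subgroup (G ⧸ K), H ≤ Subgroup.normalizer (Lb : Set (G ⧸ K)) := fun H => by
    rw [Subgroup.normalizer_eq_top]; exact le_top
  have hsol : Group.IsSolvable (Subgroup.zpowers (π g)) := inferInstance
  obtain ⟨n, hn, hconj⟩ := Coprime.exists_conj_eq_of_sup_eq (hnorm _) (hnorm _) heq (hreg g hg)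
    (hreg x hx) (Or.inr hsol)
  have hmem : n * π g * n⁻¹ ∈ Subgroup.zpowers (π x) := by
    rw [← hconj]
    exact Coprime.mem_conj_smul.2 (by simp [mul_assoc])
  have h1 : n * π g * n⁻¹ * (π x)⁻¹ ∈ Subgroup.zpowers (π x) :=
    Subgroup.mul_mem _ hmem (Subgroup.inv_mem _ (Subgroup.mem_zpowers _))
  have h2 : n * π g * n⁻¹ * (π x)⁻¹ ∈ Lb := by
    have : n * π g * n⁻¹ * (π x)⁻¹ = n * (π g * n⁻¹ * (π g)⁻¹) * (π g * (π x)⁻¹) := by group
    rw [this]
    refine Lb.mul_mem (Lb.mul_mem hn ?_) ?_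
    · exact Subgroup.Normal.conj_mem inferInstance _ (Lb.inv_mem hn) _
    · simpa using Lb.inv_mem hd
  have h3 := Subgroup.disjoint_def.1
    (Subgroup.disjoint_of_coprime_natCard (hreg x hx)) h2 h1
  obtain ⟨m, hm, rfl⟩ := Subgroup.mem_map.1 hn
  refine ⟨m, hm, ?_⟩
  rw [← QuotientGroup.eq_one_iff]
  simpa [hπ] using h3

end Cfsg.Agent.CharTheory.RegularSupport
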