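import Mathlib
import Cfsg.Agent.Lib.CharTheory.RegularSupport.Coset
import Cfsg.Agent.Lib.Characters.Kernel

/-!
# The invariant extension to a `p`-extension of a `p'`-subgroup
-/

set_option autoImplicit false
set_option linter.style.haveILetI false
set_option linter.unusedSectionVars false

namespace Cfsg.Agent.CharTheory.RegularSupport

open Cfsg.Agent.Characters Cfsg.Agent.CharTheory

universe u

variable {G : Type u} [Group G] [Finite G]

theorem exists_invariant_extension (L K : Subgroup G) [hL : L.Normal] [hK : K.Normal] (hKL : K ≤ L)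
    (hcop : (K.relIndex L).Coprime (Nat.card K)) {θ : K → ℂ} (hθ : Cfsg.IsIrrCharacter K θ)
    (hinv : ∀ g : G, Clifford.conjBy K g θ = θ) :
    ∃ φ : L → ℂ, Cfsg.IsIrrCharacter L φ ∧ (∀ k : K, φ ⟨(k : G), hKL k.2⟩ = θ k) ∧
      ∀ g : G, Clifford.conjBy L g φ = φ := by
  classical
  haveI := Fintype.ofFinite G
  set K' : Subgroup L := K.subgroupOf L with hK'
  haveI : K'.Normal := hK.subgroupOf L
  set e : K' ≃* K := Subgroup.subgroupOfEquivOfLe hKL with he
  set θ' : K' → ℂ := θ ∘ e with hθ'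
  have hθ'i : Cfsg.IsIrrCharacter K' θ' := (isIrrCharacter_comp_mulEquiv e).2 hθ
  have hinv' : ∀ l : L, Clifford.conjBy K' l θ' = θ' := by
    intro l
    funext k
    have := congrFun (hinv (l : G)) (e k)
    rw [Clifford.conjBy_apply] at this ⊢
    exact (congrArg θ (Subtype.ext rfl)).trans this
  have hidx : K'.index = K.relIndex L := rfl
  obtain ⟨d, hd, -, hdvd⟩ := irr_degree_dvd_card hθ'i
  rw [Nat.card_congr e.toEquiv] at hdvd
  have hcd : Nat.Coprime K'.index d := by rw [hidx]; exact hcop.coprime_dvd_right hdvd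
  obtain ⟨hlc, hl1⟩ := ExtendChar.detChar_isLinear (isCharacter_of_isIrr hθ'i)
  have horder : orderOf (Cfsg.detChar θ') ∣ Nat.card K := by
    obtain ⟨f, hf⟩ := ExtendChar.exists_hom hlc hl1
    refine orderOf_dvd_of_pow_eq_one (funext fun k => ?_)
    rw [Pi.pow_apply, Pi.one_apply, ← hf, ← Units.val_pow_eq_pow_val, ← map_pow,
      ← Nat.card_congr e.toEquiv, pow_card_eq_one', map_one, Units.val_one]
  have hco : Nat.Coprime K'.index (orderOf (Cfsg.detChar θ')) := by
    rw [hidx]; exact hcop.coprime_dvd_right horder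
  have hdinv : ∀ (l : L) (k : K'), Cfsg.detChar θ' ⟨l * k * l⁻¹,
      Subgroup.Normal.conj_mem inferInstance (k : L) k.2 l⟩ = Cfsg.detChar θ' k := by
    intro l k
    have h1 := congrFun (ExtendChar.detChar_comp ((MulAut.conjNormal l : K' ≃* K').toMonoidHom)
      (isCharacter_of_isIrr hθ'i)) k
    rw [← Clifford.conjBy_eq_comp, hinv'] at h1
    rw [h1, Function.comp]
    exact congrArg _ (Subtype.ext (by simp))
  obtain ⟨μ, hμ, hμo⟩ := ExtendChar.exists_linear_extension_coprime K' ⟨hlc, hl1⟩ hdinv hco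
  set μc : L → ℂ := fun l => (μ l : ℂ) with hμc
  obtain ⟨η, hη, hηN⟩ := ExtendChar.exists_extension_det K' hθ'i hinv' hd hcd μ hμ
  obtain ⟨hμch, hμ1⟩ := ExtendChar.hom_isLinear μ
  obtain ⟨φ, ⟨hφ, hφK, hφdet⟩, huniq⟩ :=
    ExtendChar.existsUnique_extension_det K' hθ'i hd hcd hη hηN hμch hμ1 hμ
  have hφK' : ∀ k : K, φ ⟨(k : G), hKL k.2⟩ = θ k := by
    intro k
    have h1 := hφK ⟨⟨(k : G), hKL k.2⟩, k.2⟩
    exact h1.trans (congrArg θ (Subtype.ext rfl))
  refine ⟨φ, hφ, hφK', fun g => ?_⟩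
  refine huniq _ ⟨Clifford.isIrrCharacter_conjBy L g hφ, fun k => ?_, ?_⟩
  · rw [Clifford.conjBy_apply]
    have h1 := hφK ⟨⟨g * ((k : L) : G) * g⁻¹, hL.conj_mem _ (k : L).2 g⟩, hK.conj_mem _ k.2 g⟩
    refine h1.trans ?_
    have h2 := congrFun (hinv g) (e k)
    rw [Clifford.conjBy_apply] at h2
    exact (congrArg θ (Subtype.ext rfl)).trans h2
  · rw [Clifford.conjBy_eq_comp, ExtendChar.detChar_comp _ (isCharacter_of_isIrr hφ), hφdet]
    set c : L →* L := (MulAut.conjNormal g : L ≃* L).toMonoidHom with hc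
    have hdvd' : orderOf (μc ∘ c) ∣ orderOf μc := orderOf_dvd_of_pow_eq_one (funext fun l => by
      rw [Pi.pow_apply, Function.comp, ExtendChar.linear_pow_orderOf]; rfl)
    refine ExtendChar.linear_extension_unique K' hμch hμ1 (isCharacter_comp c hμch) ?_ (fun k => ?_)
      ?_ ?_
    · simp [hc]
    · simp only [Function.comp, hc]
      have hm : (MulAut.conjNormal g : L ≃* L) (k : L) ∈ K' := by
        show ((MulAut.conjNormal g (k : L) : L) : G) ∈ K
        rw [MulAut.conjNormal_apply]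
        exact hK.conj_mem _ k.2 g
      show (μ ((⟨_, hm⟩ : K') : L) : ℂ) = (μ (k : L) : ℂ)
      rw [hμ, hμ]
      set cK : K' →* K' := (e.symm.toMonoidHom.comp
        (MulAut.conjNormal g : K ≃* K).toMonoidHom).comp e.toMonoidHom with hcK
      have h4 : θ' ∘ cK = θ' := by
        funext x
        show θ (e (e.symm ((MulAut.conjNormal g : K ≃* K) (e x)))) = θ (e x)
        rw [e.apply_symm_apply]
        have h5 := congrFun (Clifford.conjBy_eq_comp K g θ) (e x)
        rw [hinv g] at h5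
        exact h5.symm
      have h6 := congrFun (ExtendChar.detChar_comp cK (isCharacter_of_isIrr hθ'i)) k
      rw [h4] at h6
      rw [h6, Function.comp]
      refine congrArg (Cfsg.detChar θ') (Subtype.ext (Subtype.ext ?_))
      simp [hcK, he]; rfl
    · rw [hμo]; exact hco
    · exact (by rw [hμo]; exact hco : Nat.Coprime K'.index (orderOf μc)).coprime_dvd_right hdvd'

end Cfsg.Agent.CharTheory.RegularSupport
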