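import Mathlib
import Cfsg.Agent.Lib.CharTheory.RegularSupport.Coset
import Cfsg.Agent.Lib.Characters.Inner

/-!
# The degree weighted sum of a set of irreducible characters
-/

set_option autoImplicit false
set_option linter.style.haveILetI false
set_option linter.unusedSectionVars false

namespace Cfsg.Agent.CharTheory.RegularSupport

open Cfsg.Agent.Characters Cfsg.Agent.CharTheory
open scoped ComplexConjugate

universe u

variable {G : Type u} [Group G] [Finite G]

/-- The sum of `η 1 * η` over the members of `V`. -/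
noncomputable def wsum (V : Set (Cfsg.IrrCharacter G)) : G → ℂ :=
  fun x => ∑ᶠ η ∈ V, (η : G → ℂ) 1 * (η : G → ℂ) x

theorem wsum_eq_sum [Fintype (Cfsg.IrrCharacter G)] (V : Set (Cfsg.IrrCharacter G))
    [DecidablePred (· ∈ V)] :
    wsum V = ∑ η : Cfsg.IrrCharacter G, (if η ∈ V then (η : G → ℂ) 1 else 0) • (η : G → ℂ) := by
  funext x
  rw [wsum, finsum_mem_eq_toFinset_sum, Finset.sum_apply]
  simp only [Pi.smul_apply, smul_eq_mul, ite_mul, zero_mul]
  rw [← Finset.sum_filter]
  exact Finset.sum_congr (by ext η; simp) fun _ _ => rfl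

theorem isCharacter_wsum (V : Set (Cfsg.IrrCharacter G)) : Cfsg.IsCharacter G (wsum V) := by
  classical
  haveI := Fintype.ofFinite (Cfsg.IrrCharacter G)
  rw [wsum_eq_sum]
  refine isCharacter_sum _ _ fun η _ => ?_
  split
  · obtain ⟨n, -, hn⟩ := irr_one_pos η.2
    rw [hn]
    exact isCharacter_natSmul (irr_isCharacter η) n
  · rw [zero_smul]; exact isCharacter_zero

theorem classInner_wsum [Fintype G] (V : Set (Cfsg.IrrCharacter G)) [DecidablePred (· ∈ V)]
    (η : Cfsg.IrrCharacter G) :
    Cfsg.classInner (wsum V) (η : G → ℂ) = if η ∈ V then (η : G → ℂ) 1 else 0 := by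
  classical
  haveI := Fintype.ofFinite (Cfsg.IrrCharacter G)
  rw [wsum_eq_sum, classInner_sum_left, Finset.sum_eq_single η]
  · rw [classInner_smul_left, classInner_irr, if_pos rfl, mul_one]
  · intro b _ hb
    rw [classInner_smul_left, classInner_irr, if_neg hb, mul_zero]
  · simp

theorem wsum_one [Fintype (Cfsg.IrrCharacter G)] (V : Set (Cfsg.IrrCharacter G))
    [DecidablePred (· ∈ V)] :
    wsum V 1 = ∑ η : Cfsg.IrrCharacter G, if η ∈ V then (η : G → ℂ) 1 * (η : G → ℂ) 1 else 0 := by
  rw [wsum_eq_sum, Finset.sum_apply]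
  exact Finset.sum_congr rfl fun η _ => by
    rw [Pi.smul_apply, smul_eq_mul]; split <;> simp

/-- The norm of the weighted sum. -/
theorem sum_normSq_wsum [Fintype G] (V : Set (Cfsg.IrrCharacter G)) :
    ((∑ x : G, Complex.normSq (wsum V x) : ℝ) : ℂ) = (Nat.card G : ℂ) * wsum V 1 := by
  classical
  haveI := Fintype.ofFinite (Cfsg.IrrCharacter G)
  have h : Cfsg.classInner (wsum V) (wsum V) = wsum V 1 := by
    conv_lhs => arg 1; rw [wsum_eq_sum]
    rw [classInner_sum_left, wsum_one]
    refine Finset.sum_congr rfl fun η _ => ?_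
    rw [classInner_smul_left, classInner_conj_symm (wsum V) (η : G → ℂ), classInner_wsum]
    split
    · obtain ⟨n, -, hn⟩ := irr_one_pos η.2
      rw [hn, map_natCast]
    · simp
  rw [← h, classInner_def, Complex.ofReal_sum, ← mul_assoc,
    mul_inv_cancel₀ (Nat.cast_ne_zero.2 Nat.card_pos.ne'), one_mul]
  exact Finset.sum_congr rfl fun x _ => (Complex.mul_conj _).symm

/-- The degree weighted multiplicity of a restriction constituent. -/
theorem classInner_wsum_restrict [Fintype G] [Fintype (Cfsg.IrrCharacter G)]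
    (V : Set (Cfsg.IrrCharacter G)) [DecidablePred (· ∈ V)] (N : Subgroup G) [Fintype N]
    (φ : N → ℂ) :
    Cfsg.classInner (fun n : N => wsum V n) φ = ∑ η : Cfsg.IrrCharacter G,
      if η ∈ V then (η : G → ℂ) 1 * Cfsg.classInner (fun n : N => (η : G → ℂ) n) φ else 0 := by
  rw [wsum_eq_sum, show (fun n : N => (∑ η : Cfsg.IrrCharacter G,
      (if η ∈ V then (η : G → ℂ) 1 else 0) • (η : G → ℂ)) (n : G)) = ∑ η : Cfsg.IrrCharacter G,
      (if η ∈ V then (η : G → ℂ) 1 else 0) • (fun n : N => (η : G → ℂ) n) from by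
    funext n; simp only [Finset.sum_apply, Pi.smul_apply], classInner_sum_left]
  exact Finset.sum_congr rfl fun η _ => by rw [classInner_smul_left]; split <;> simp

/-- If all members lie over the invariant character `φ`, the weighted multiplicity of `φ` gives
the degree of the weighted sum. -/
theorem classInner_wsum_mul [Fintype G] (V : Set (Cfsg.IrrCharacter G)) (N : Subgroup G) [Fintype N]
    [N.Normal] {φ : N → ℂ} (hφ : Cfsg.IsIrrCharacter N φ)
    (hinv : ∀ g : G, Clifford.conjBy N g φ = φ) :
    Cfsg.classInner (fun n : N => wsum V n) φ * φ 1 =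
      wsum {η | η ∈ V ∧ Cfsg.classInner (fun n : N => (η : G → ℂ) n) φ ≠ 0} 1 := by
  classical
  haveI := Fintype.ofFinite (Cfsg.IrrCharacter G)
  rw [classInner_wsum_restrict, wsum_one, Finset.sum_mul]
  refine Finset.sum_congr rfl fun η _ => ?_
  simp only [Set.mem_ofPred_eq]
  by_cases h : η ∈ V
  · by_cases h0 : Cfsg.classInner (fun n : N => (η : G → ℂ) n) φ = 0
    · simp [h, h0]
    · rw [if_pos h, if_pos ⟨h, h0⟩, mul_assoc]
      congr 1
      have := congrFun (Clifford.restrict_eq_smul_of_invariant N η.2 hφ h0 hinv) 1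
      simpa using this.symm
  · rw [if_neg h, if_neg fun hh => h hh.1, zero_mul]

end Cfsg.Agent.CharTheory.RegularSupport
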