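import Mathlib
import Cfsg.Agent.Lib.CharTheory.RegularSupport.Canonical
import Cfsg.Agent.Lib.CharTheory.RegularSupport.WeightedSum

/-!
# A weighted sum over an invariant character supported on the regular elements

`K ≤ L` are normal, `K` is a `p'`-group, `L / K` a `p`-group containing its centralizer.  A set `V`
of characters over the invariant `θ ∈ Irr K` whose weighted sum vanishes at the `p`-singular
elements is empty or contains every character over `θ`: comparing the weighted sum with its part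
over the canonical extension of `θ` coset by coset shows that it is supported on `K`.
-/

set_option autoImplicit false
set_option linter.style.haveILetI false
set_option linter.unusedSectionVars false

namespace Cfsg.Agent.CharTheory.RegularSupport

open Cfsg.Agent.Characters Cfsg.Agent.CharTheory
open scoped ComplexConjugate

universe u

variable {G : Type u} [Group G] [Finite G]

theorem orderOf_dvd_image {H : Type*} [Group H] (f : G →* H) (x : G) :
    orderOf (f x) ∣ orderOf x := orderOf_map_dvd f x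

/-- The coset inequality. -/
theorem coset_le [Fintype G] {p : ℕ} [hp : Fact p.Prime] (L K : Subgroup G) [hL : L.Normal]
    [hK : K.Normal] [Fintype L] (hKL : K ≤ L) (hpK : ¬ p ∣ Nat.card K)
    (hLK : IsPGroup p (L.map (QuotientGroup.mk' K)))
    (hcent : ∀ g : G, (∀ l ∈ L, l * g * l⁻¹ * g⁻¹ ∈ K) → g ∈ L)
    {θ : K → ℂ} {φ : L → ℂ} (hφ : Cfsg.IsIrrCharacter L φ)
    (hθ : Cfsg.IsIrrCharacter K θ)
    (hφK : ∀ k : K, φ ⟨(k : G), hKL k.2⟩ = θ k) (hφinv : ∀ g : G, Clifford.conjBy L g φ = φ)
    {f f1 : G → ℂ} (hf : Cfsg.IsCharacter G f)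
    (hsupp : ∀ x : G, p ∣ orderOf x → f x = 0)
    {c : ℂ} (hfK : ∀ k : K, f k = c * θ k)
    {D : G → ℂ} (hD : Cfsg.IsCharacter G D) (hfD : f = f1 + D)
    (hDφ : ∀ [Fintype L], Cfsg.classInner (fun n : L => D n) φ = 0)
    {g : G} (hg : f g ≠ 0) :
    (∑ l : L, Complex.normSq (f ((l : G) * g)) ≤
      (Nat.card (L.map (QuotientGroup.mk' K)) : ℝ) * ∑ l : L, Complex.normSq (f1 ((l : G) * g))) ∧
    ((Nat.card (L.map (QuotientGroup.mk' K)) : ℝ) * ∑ l : L, Complex.normSq (f1 ((l : G) * g)) =
      ∑ l : L, Complex.normSq (f ((l : G) * g)) → g ∈ K) := by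
  classical
  set π := QuotientGroup.mk' K with hπ
  set m := Nat.card (L.map π) with hm
  have hgreg : ¬ p ∣ orderOf g := fun h => hg (hsupp g h)
  -- the group generated by `L` and `g`
  set R : Subgroup G := L ⊔ Subgroup.zpowers g with hR
  have hLR : L ≤ R := le_sup_left
  have hgR : g ∈ R := Subgroup.mem_sup_right (Subgroup.mem_zpowers g)
  haveI := Fintype.ofFinite R
  set L' : Subgroup R := L.subgroupOf R with hL'
  haveI : L'.Normal := hL.subgroupOf R
  haveI : (K.subgroupOf R).Normal := hK.subgroupOf R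
  haveI := Fintype.ofFinite L'
  haveI := Fintype.ofFinite (K.subgroupOf R)
  haveI := Fintype.ofFinite K
  set eL : L' ≃* L := Subgroup.subgroupOfEquivOfLe hLR with heL
  set eK : K.subgroupOf R ≃* K := Subgroup.subgroupOfEquivOfLe (hKL.trans hLR) with heK
  have hcyc : IsCyclic (R ⧸ L') := by
    refine isCyclic_of_surjective ((QuotientGroup.mk' L').comp
      (Subgroup.inclusion (show Subgroup.zpowers g ≤ R from le_sup_right))) fun q => ?_
    obtain ⟨r, rfl⟩ := QuotientGroup.mk'_surjective L' q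
    obtain ⟨l, hl, z, hz, hlz⟩ := Subgroup.mem_sup_of_normal_left.1 r.2
    refine ⟨⟨z, hz⟩, (QuotientGroup.mk'_eq_mk' L').2 ⟨⟨z⁻¹ * l * z, hLR ?_⟩, ?_, ?_⟩⟩
    · simpa using hL.conj_mem l hl z⁻¹
    · simpa [hL', Subgroup.mem_subgroupOf] using hL.conj_mem l hl z⁻¹
    · exact Subtype.ext (by simp [← hlz, mul_assoc])
  obtain ⟨χ, hχ, hχL⟩ := ExtendChar.exists_extension_cyclic L' hcyc
    ((isIrrCharacter_comp_mulEquiv eL).2 hφ) (fun r => by
      funext n
      have h := congrFun (hφinv (r : G)) (eL n)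
      rw [Clifford.conjBy_apply] at h ⊢
      exact (congrArg φ (Subtype.ext rfl)).trans h)
  have hχL' : ∀ (l : L), χ ⟨(l : G), hLR l.2⟩ = φ l := fun l =>
    (hχL ⟨⟨(l : G), hLR l.2⟩, l.2⟩).trans (congrArg φ (Subtype.ext rfl))
  have hirrL : Cfsg.IsIrrCharacter L' (fun n : L' => χ n) := by
    rw [show (fun n : L' => χ n) = φ ∘ eL from funext hχL]
    exact (isIrrCharacter_comp_mulEquiv eL).2 hφ
  have hχK : (fun n : K.subgroupOf R => χ n) = θ ∘ eK := by
    funext n
    rw [Function.comp, ← hφK, ← hχL']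
    rfl
  have hirrK : Cfsg.IsIrrCharacter (K.subgroupOf R) (fun n : K.subgroupOf R => χ n) := by
    rw [hχK]; exact (isIrrCharacter_comp_mulEquiv eK).2 hθ
  -- the proportionality on the coset of `K`
  set fR : R → ℂ := f ∘ R.subtype with hfR
  have hfRc : Cfsg.IsCharacter R fR := isCharacter_comp R.subtype hf
  set a : R → ℂ := Average.quotChar (K.subgroupOf R) χ fR with ha
  have haχ : a * χ = fR := quotChar_mul_eq (K.subgroupOf R) hχ hirrK hfRc (c := c) fun n => by
    have h1 := congrFun hχK n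
    simp only [Function.comp] at h1
    rw [h1, ← hfK]
    rfl
  set γ : R := ⟨g, hgR⟩ with hγ
  set F : L → ℂ := fun l => f ((l : G) * g) with hF
  set X : L → ℂ := fun l => χ (⟨(l : G), hLR l.2⟩ * γ) with hX
  set P : L → Prop := fun l => ¬ p ∣ orderOf ((l : G) * g) with hP
  have hclass : ∀ l : L, P l → F l = a γ * X l := by
    intro l hl
    obtain ⟨n, hn, hk⟩ := exists_conj_mem_coset L K hKL hLK hl hgreg
      (show g * ((l : G) * g)⁻¹ ∈ L by simp)
    set nR : R := ⟨n, hLR hn⟩
    set kR : K.subgroupOf R := ⟨⟨n * ((l : G) * g) * n⁻¹ * g⁻¹, hLR (hKL hk)⟩, hk⟩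
    have e1 : nR * (⟨(l : G), hLR l.2⟩ * γ) * nR⁻¹ = (kR : R) * γ :=
      Subtype.ext (by simp [nR, kR, hγ])
    have e2 : F l = fR ((kR : R) * γ) := by
      rw [← e1, char_isClassFunction hfRc]
      rfl
    have e3 : X l = χ ((kR : R) * γ) := by
      rw [← e1, char_isClassFunction (isCharacter_of_isIrr hχ)]
    rw [e2, e3, ← haχ, Pi.mul_apply, ha, Average.quotChar_mul_left]
  have hzero : ∀ l : L, ¬ P l → F l = 0 := fun l hl => hsupp _ (not_not.1 hl)
  have hregK : ∀ (y : G) (k : K), ¬ p ∣ orderOf y → ¬ p ∣ orderOf ((k : G) * y) := by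
    intro y k hy h
    set o := orderOf ((k : G) * y) with ho
    have h1 : orderOf (π ((k : G) * y)) ∣ orderOf y := by
      rw [map_mul, hπ, QuotientGroup.mk'_apply, QuotientGroup.mk'_apply,
        (QuotientGroup.eq_one_iff _).2 k.2, one_mul]
      exact orderOf_map_dvd (QuotientGroup.mk' K) y
    have h2 : ((k : G) * y) ^ orderOf y ∈ K := by
      rw [← QuotientGroup.eq_one_iff, ← QuotientGroup.mk'_apply, map_pow]
      exact orderOf_dvd_iff_pow_eq_one.1 h1
    have h3 : (((k : G) * y) ^ orderOf y) ^ Nat.card K = 1 :=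
      congrArg Subtype.val (pow_card_eq_one' (x := (⟨_, h2⟩ : K)))
    rw [← pow_mul] at h3
    rcases hp.out.dvd_mul.1 (h.trans (orderOf_dvd_of_pow_eq_one h3)) with h' | h'
    · exact hy h'
    · exact hpK h'
  set A : ℝ := ∑ l ∈ Finset.univ.filter P, Complex.normSq (X l) with hA
  have hnorm : ∀ (y : G) (hy : y ∈ R), ∑ k : K,
      Complex.normSq (χ (⟨(k : G), hLR (hKL k.2)⟩ * ⟨y, hy⟩)) = (Nat.card K : ℝ) := by
    intro y hy
    have h := sum_coset_norm (K.subgroupOf R) hχ hirrK ⟨y, hy⟩
    rw [Nat.card_congr eK.toEquiv] at h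
    apply Complex.ofReal_injective
    rw [Complex.ofReal_natCast, ← h, Complex.ofReal_sum]
    refine (Fintype.sum_equiv eK.toEquiv _ _ fun n => ?_).symm
    rw [Complex.mul_conj]
    rfl
  -- contributions of whole cosets of `K`
  have hcoset : ∀ y : L, P y → ∑ l ∈ Finset.univ.filter (fun l : L => (l : G) * (y : G)⁻¹ ∈ K),
      Complex.normSq (X l) = (Nat.card K : ℝ) := by
    intro y _
    rw [← hnorm ((y : G) * g) (R.mul_mem (hLR y.2) hgR)]
    refine Finset.sum_bij (fun (l : L) hl => (⟨(l : G) * (y : G)⁻¹, (Finset.mem_filter.1 hl).2⟩ : K))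
      (fun _ _ => Finset.mem_univ _) ?_ ?_ ?_
    · intro l _ l' _ he
      exact Subtype.ext (mul_right_cancel (congrArg Subtype.val he))
    · intro k _
      refine ⟨⟨(k : G) * y, L.mul_mem (hKL k.2) y.2⟩, by simp, Subtype.ext (by simp)⟩
    · intro l _
      refine congrArg (fun z => Complex.normSq (χ z)) (Subtype.ext ?_)
      simp [hγ, mul_assoc]
  have hsub : ∀ y : L, P y → (Finset.univ.filter fun l : L => (l : G) * (y : G)⁻¹ ∈ K) ⊆
      Finset.univ.filter P := by
    intro y hy l hl
    rw [Finset.mem_filter] at hl ⊢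
    refine ⟨hl.1, ?_⟩
    have := hregK ((y : G) * g) ⟨_, hl.2⟩ hy
    simpa [hP, mul_assoc] using this
  have hone : P 1 := by simpa [hP] using hgreg
  have hAK : (Nat.card K : ℝ) ≤ A := by
    rw [← hcoset 1 hone]
    exact Finset.sum_le_sum_of_subset_of_nonneg (hsub 1 hone) fun _ _ _ => Complex.normSq_nonneg _
  -- the sums over the coset
  have hsumF : ∑ l : L, Complex.normSq (F l) = Complex.normSq (a γ) * A := by
    rw [hA, Finset.mul_sum, Finset.sum_filter]
    refine Finset.sum_congr rfl fun l _ => ?_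
    by_cases hl : P l
    · rw [if_pos hl, hclass l hl, map_mul]
    · rw [if_neg hl, hzero l hl, map_zero]
  have hin : ∑ l : L, f1 ((l : G) * g) * conj (X l) = a γ * (A : ℂ) := by
    have h0 : ∑ l : L, D ((l : G) * g) * conj (X l) = 0 := by
      have hd := hDφ
      have h := sum_coset_orth L' (isCharacter_of_isIrr hχ) (isCharacter_comp R.subtype hD) (by
        rw [show (fun n : L' => χ n) = φ ∘ eL from funext hχL, ← hd]
        rw [classInner_def, classInner_def, Nat.card_congr eL.toEquiv]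
        congr 1
        exact Fintype.sum_equiv eL.toEquiv _ _ fun n => rfl) γ
      rw [← h]
      exact (Fintype.sum_equiv eL.toEquiv _ _ fun n => rfl).symm
    have h1 : ∑ l : L, F l * conj (X l) = a γ * (A : ℂ) := by
      rw [hA, Complex.ofReal_sum, Finset.mul_sum, Finset.sum_filter]
      refine Finset.sum_congr rfl fun l _ => ?_
      by_cases hl : P l
      · rw [if_pos hl, hclass l hl, mul_assoc, Complex.mul_conj]
      · rw [if_neg hl, hzero l hl, zero_mul]
    rw [← h1]
    simp only [hF, hfD, Pi.add_apply, add_mul, Finset.sum_add_distrib, h0, add_zero]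
  have hXsum : ∑ l : L, Complex.normSq (X l) = (Nat.card L : ℝ) := by
    have h := sum_coset_norm L' hχ hirrL γ
    rw [Nat.card_congr eL.toEquiv] at h
    apply Complex.ofReal_injective
    rw [Complex.ofReal_natCast, ← h, Complex.ofReal_sum]
    refine (Fintype.sum_equiv eL.toEquiv _ _ fun n => ?_).symm
    rw [Complex.mul_conj]
    rfl
  -- Cauchy-Schwarz
  have hCS : Complex.normSq (a γ) * A ^ 2 ≤
      (∑ l : L, Complex.normSq (f1 ((l : G) * g))) * (Nat.card L : ℝ) := by
    have h1 : ‖∑ l : L, f1 ((l : G) * g) * conj (X l)‖ ≤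
        ∑ l : L, ‖f1 ((l : G) * g)‖ * ‖X l‖ := by
      refine (norm_sum_le _ _).trans (le_of_eq ?_)
      simp
    have h2 := Finset.sum_mul_sq_le_sq_mul_sq Finset.univ (fun l : L => ‖f1 ((l : G) * g)‖)
      (fun l : L => ‖X l‖)
    rw [hin] at h1
    have h3 : ‖a γ * (A : ℂ)‖ ^ 2 = Complex.normSq (a γ) * A ^ 2 := by
      rw [norm_mul, mul_pow, Complex.norm_real, Real.norm_eq_abs, sq_abs,
        ← Complex.normSq_eq_norm_sq]
    rw [← h3, ← hXsum]
    refine (pow_le_pow_left₀ (norm_nonneg _) h1 2).trans (h2.trans (le_of_eq ?_))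
    simp only [Complex.normSq_eq_norm_sq]
  have hcardL : (Nat.card L : ℝ) = (m : ℝ) * (Nat.card K : ℝ) := by
    have h := Subgroup.card_mul_index (K.subgroupOf L)
    rw [Nat.card_congr (Subgroup.subgroupOfEquivOfLe hKL).toEquiv] at h
    have h2 : (K.subgroupOf L).index = m := by
      rw [hm, Subgroup.index]
      refine Nat.card_congr ((QuotientGroup.quotientMulEquivOfEq ?_).trans
        (QuotientGroup.quotientKerEquivRange (π.comp L.subtype)) |>.toEquiv.trans (Equiv.setCongr ?_))
      · ext x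
        rw [MonoidHom.mem_ker, Subgroup.mem_subgroupOf]
        simp [hπ, QuotientGroup.eq_one_iff]
      · rw [MonoidHom.range_comp, Subgroup.range_subtype]
    rw [h2] at h
    rw [← h, Nat.cast_mul, mul_comm]
  have hKpos : (0 : ℝ) < (Nat.card K : ℝ) := Nat.cast_pos.2 Nat.card_pos
  have hapos : 0 < Complex.normSq (a γ) := by
    rw [Complex.normSq_pos]
    intro h0
    have := congrFun haχ γ
    rw [Pi.mul_apply, h0, zero_mul] at this
    exact hg this.symm
  set S1 := ∑ l : L, Complex.normSq (f1 ((l : G) * g))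
  have hmain : Complex.normSq (a γ) * A ^ 2 ≤ (m : ℝ) * S1 * (Nat.card K : ℝ) := by
    rw [hcardL] at hCS
    linarith
  show (∑ l : L, Complex.normSq (F l) ≤ (m : ℝ) * S1) ∧
    ((m : ℝ) * S1 = ∑ l : L, Complex.normSq (F l) → g ∈ K)
  rw [hsumF]
  refine ⟨?_, fun heq => ?_⟩
  · nlinarith [mul_le_mul_of_nonneg_left hAK (mul_nonneg hapos.le (hKpos.le.trans hAK))]
  · have hgL : g ∈ L := by
      refine hcent g fun n hn => ?_
      by_contra hnK
      set y : L := ⟨n * g * n⁻¹ * g⁻¹, by
        have : n * g * n⁻¹ * g⁻¹ = n * (g * n⁻¹ * g⁻¹) := by group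
        rw [this]
        exact L.mul_mem hn (hL.conj_mem _ (L.inv_mem hn) g)⟩ with hy
      have hPy : P y := by
        show ¬ p ∣ orderOf (n * g * n⁻¹ * g⁻¹ * g)
        rw [inv_mul_cancel_right,
          show n * g * n⁻¹ = MulAut.conj n g from rfl, MulEquiv.orderOf_eq]
        exact hgreg
      have hdisj : Disjoint (Finset.univ.filter fun l : L => (l : G) * ((1 : L) : G)⁻¹ ∈ K)
          (Finset.univ.filter fun l : L => (l : G) * (y : G)⁻¹ ∈ K) := by
        rw [Finset.disjoint_left]
        intro l h1 h2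
        rw [Finset.mem_filter] at h1 h2
        refine hnK ?_
        have h1' : (l : G) ∈ K := by simpa using h1.2
        have := K.inv_mem (K.mul_mem (K.inv_mem h1') h2.2)
        simpa [hy] using this
      have h2K : 2 * (Nat.card K : ℝ) ≤ A := by
        calc 2 * (Nat.card K : ℝ) = ∑ l ∈ (Finset.univ.filter fun l : L =>
              (l : G) * ((1 : L) : G)⁻¹ ∈ K) ∪
              (Finset.univ.filter fun l : L => (l : G) * (y : G)⁻¹ ∈ K),
              Complex.normSq (X l) := by
              rw [Finset.sum_union hdisj, hcoset 1 hone, hcoset y hPy, two_mul]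
          _ ≤ A := Finset.sum_le_sum_of_subset_of_nonneg
              (Finset.union_subset (hsub 1 hone) (hsub y hPy))
              fun _ _ _ => Complex.normSq_nonneg _
      rw [heq] at hmain
      nlinarith [mul_lt_mul_of_pos_left (show (Nat.card K : ℝ) < A by linarith)
        (mul_pos hapos (hKpos.trans_le hAK))]
    -- a regular element of `L` lies in `K`
    obtain ⟨j, hj⟩ := IsPGroup.iff_card.1 hLK
    have h1 : orderOf (π g) ∣ p ^ j := by
      rw [← hj, ← Subgroup.orderOf_mk (H := L.map π) _ (Subgroup.mem_map_of_mem π hgL)]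
      exact orderOf_dvd_natCard _
    have h2 : orderOf (π g) = 1 := Nat.eq_one_of_dvd_coprimes
      (((hp.out.coprime_iff_not_dvd).2 hgreg).pow_left j) h1 (orderOf_dvd_image π g)
    rwa [orderOf_eq_one_iff, hπ, QuotientGroup.mk'_apply, QuotientGroup.eq_one_iff] at h2

/-- The weighted sum over an invariant character is empty or complete. -/
theorem mem_of_core [Fintype G] {p : ℕ} [hp : Fact p.Prime] (L K : Subgroup G) [hL : L.Normal]
    [hK : K.Normal] [Fintype K] (hKL : K ≤ L) (hpK : ¬ p ∣ Nat.card K)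
    (hLK : IsPGroup p (L.map (QuotientGroup.mk' K)))
    (hcent : ∀ g : G, (∀ l ∈ L, l * g * l⁻¹ * g⁻¹ ∈ K) → g ∈ L)
    {θ : K → ℂ} (hθ : Cfsg.IsIrrCharacter K θ) (hinv : ∀ g : G, Clifford.conjBy K g θ = θ)
    {V : Set (Cfsg.IrrCharacter G)}
    (hover : ∀ η ∈ V, Cfsg.classInner (fun n : K => (η : G → ℂ) n) θ ≠ 0)
    (hne : V.Nonempty) (hvan : ∀ x : G, p ∣ orderOf x → wsum V x = 0)
    (η : Cfsg.IrrCharacter G) (hη : Cfsg.classInner (fun n : K => (η : G → ℂ) n) θ ≠ 0) :
    η ∈ V := by
  classical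
  haveI := Fintype.ofFinite L
  haveI := Fintype.ofFinite (Cfsg.IrrCharacter G)
  set π := QuotientGroup.mk' K with hπ
  have hidx : K.relIndex L = Nat.card (L.map π) := by
    rw [Subgroup.relIndex, Subgroup.index]
    refine Nat.card_congr ((QuotientGroup.quotientMulEquivOfEq ?_).trans
      (QuotientGroup.quotientKerEquivRange (π.comp L.subtype)) |>.toEquiv.trans (Equiv.setCongr ?_))
    · ext x
      rw [MonoidHom.mem_ker, Subgroup.mem_subgroupOf]
      simp [hπ, QuotientGroup.eq_one_iff]
    · rw [MonoidHom.range_comp, Subgroup.range_subtype]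
  obtain ⟨j, hj⟩ := IsPGroup.iff_card.1 hLK
  have hcop : (K.relIndex L).Coprime (Nat.card K) := by
    rw [hidx, hj]; exact ((hp.out.coprime_iff_not_dvd).2 hpK).pow_left j
  obtain ⟨φ, hφ, hφK, hφinv⟩ := exists_invariant_extension L K hKL hcop hθ hinv
  set V1 : Set (Cfsg.IrrCharacter G) :=
    {η | η ∈ V ∧ Cfsg.classInner (fun n : L => (η : G → ℂ) n) φ ≠ 0} with hV1
  set V2 : Set (Cfsg.IrrCharacter G) :=
    {η | η ∈ V ∧ Cfsg.classInner (fun n : L => (η : G → ℂ) n) φ = 0} with hV2
  have hsplit : wsum V = wsum V1 + wsum V2 := by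
    funext x
    rw [Pi.add_apply]
    simp only [wsum]
    rw [← finsum_mem_union (Set.disjoint_left.2 fun η h1 h2 => h1.2 h2.2) (Set.toFinite _)
      (Set.toFinite _)]
    refine finsum_mem_congr (Set.ext fun η => ?_) fun _ _ => rfl
    by_cases h0 : Cfsg.classInner (fun n : L => (η : G → ℂ) n) φ = 0 <;> simp [hV1, hV2, h0]
  have hdeg : ∀ k : K, wsum V k = Cfsg.classInner (fun n : K => wsum V n) θ * θ k := by
    intro k
    rw [classInner_wsum_restrict]
    conv_lhs => rw [wsum_eq_sum]
    rw [Finset.sum_apply, Finset.sum_mul]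
    refine Finset.sum_congr rfl fun η _ => ?_
    by_cases h : η ∈ V
    · simp only [if_pos h, Pi.smul_apply, smul_eq_mul, mul_assoc]
      congr 1
      have := congrFun (Clifford.restrict_eq_smul_of_invariant K η.2 hθ (hover η h) hinv) k
      simpa using this
    · simp [h]
  have hV2φ : ∀ [Fintype L], Cfsg.classInner (fun n : L => wsum V2 n) φ = 0 := by
    intro _
    rw [classInner_wsum_restrict]
    refine Finset.sum_eq_zero fun η _ => ?_
    by_cases h : η ∈ V2
    · rw [if_pos h, show Cfsg.classInner (fun n : L => (η : G → ℂ) n) φ = 0 by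
        convert h.2 using 2, mul_zero]
    · rw [if_neg h]
  set m := Nat.card (L.map π) with hm
  -- degrees
  have h1 : wsum V1 1 * (m : ℂ) = wsum V 1 := by
    have eA := classInner_wsum_mul V L hφ hφinv
    have eB := classInner_wsum_mul V K hθ hinv
    rw [show {η | η ∈ V ∧ Cfsg.classInner (fun n : K => (η : G → ℂ) n) θ ≠ 0} = V from
      Set.ext fun η => ⟨fun h => h.1, fun h => ⟨h, hover η h⟩⟩] at eB
    rw [← hV1] at eA
    rw [← eA, ← eB]
    have hsum : ∑ l : L, wsum V l * conj (φ l) = ∑ k : K, wsum V k * conj (θ k) := by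
      symm
      refine Fintype.sum_of_injective (Subgroup.inclusion hKL)
        (Subgroup.inclusion_injective hKL) _ _ (fun l hl => ?_) (fun k => ?_)
      · have hlK : (l : G) ∉ K := fun h => hl ⟨⟨l, h⟩, Subtype.ext rfl⟩
        rw [hvan, zero_mul]
        by_contra hreg
        have e1 : orderOf (π l) ∣ p ^ j := by
          rw [← hj, ← Subgroup.orderOf_mk (H := L.map π) _ (Subgroup.mem_map_of_mem π l.2)]
          exact orderOf_dvd_natCard _
        have e2 : orderOf (π (l : G)) = 1 := Nat.eq_one_of_dvd_coprimes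
          (((hp.out.coprime_iff_not_dvd).2 hreg).pow_left j) e1 (orderOf_map_dvd π _)
        rw [orderOf_eq_one_iff, hπ, QuotientGroup.mk'_apply, QuotientGroup.eq_one_iff] at e2
        exact hlK e2
      · rw [show φ (Subgroup.inclusion hKL k) = θ k from hφK k]
        rfl
    have hφ1 : φ 1 = θ 1 := by rw [← hφK 1]; rfl
    have hLcard : (Nat.card L : ℂ) = (m : ℂ) * (Nat.card K : ℂ) := by
      have h := Subgroup.card_mul_index (K.subgroupOf L)
      rw [Nat.card_congr (Subgroup.subgroupOfEquivOfLe hKL).toEquiv] at h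
      rw [← h, show (K.subgroupOf L).index = m from hidx, Nat.cast_mul, mul_comm]
    have hK0 : (Nat.card K : ℂ) ≠ 0 := Nat.cast_ne_zero.2 Nat.card_pos.ne'
    have hm0 : (m : ℂ) ≠ 0 := Nat.cast_ne_zero.2 (by rw [hm]; exact Nat.card_pos.ne')
    rw [classInner_def, classInner_def, hsum, hφ1, hLcard]
    field_simp
  set h : G → ℝ := fun g => ∑ l : L, Complex.normSq (wsum V ((l : G) * g)) with hh
  set h' : G → ℝ := fun g => ∑ l : L, Complex.normSq (wsum V1 ((l : G) * g)) with hh'
  have hpt := fun g (hg : wsum V g ≠ 0) => coset_le L K hKL hpK hLK hcent hφ hθ hφK hφinv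
    (isCharacter_wsum V) hvan hdeg (isCharacter_wsum V2) hsplit hV2φ hg
  have hshift : ∀ (F : G → ℂ) (g : G) (l₀ : L),
      ∑ l : L, Complex.normSq (F ((l : G) * ((l₀ : G) * g))) =
        ∑ l : L, Complex.normSq (F ((l : G) * g)) := fun F g l₀ =>
    Fintype.sum_equiv (Equiv.mulRight l₀) _ _ fun l => by simp [mul_assoc]
  have hle : ∀ g, h g ≤ (m : ℝ) * h' g := by
    intro g
    by_cases hz : ∀ l : L, wsum V ((l : G) * g) = 0
    · simp only [hh, hz, map_zero, Finset.sum_const_zero]
      exact mul_nonneg (Nat.cast_nonneg _) (Finset.sum_nonneg fun _ _ => Complex.normSq_nonneg _)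
    · push Not at hz
      obtain ⟨l₀, hl₀⟩ := hz
      have := (hpt _ hl₀).1
      rwa [hshift, hshift] at this
  have hsumh : ∀ F : G → ℂ, ∑ g : G, ∑ l : L, Complex.normSq (F ((l : G) * g)) =
      (Nat.card L : ℝ) * ∑ x : G, Complex.normSq (F x) := by
    intro F
    rw [Finset.sum_comm]
    trans ∑ _l : L, ∑ x : G, Complex.normSq (F x)
    · exact Finset.sum_congr rfl fun l _ => Fintype.sum_equiv (Equiv.mulLeft (l : G))
        (fun g => Complex.normSq (F ((l : G) * g))) (fun x => Complex.normSq (F x)) fun g => rfl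
    · rw [Finset.sum_const, Finset.card_univ, nsmul_eq_mul, Nat.card_eq_fintype_card]
  have htot : ∑ g : G, h g = ∑ g : G, (m : ℝ) * h' g := by
    apply Complex.ofReal_injective
    rw [← Finset.mul_sum, hh, hh', hsumh, hsumh]
    push_cast
    rw [← Complex.ofReal_sum, ← Complex.ofReal_sum, sum_normSq_wsum, sum_normSq_wsum, ← h1]
    ring
  have heq : ∀ g, h g = (m : ℝ) * h' g := fun g =>
    (Finset.sum_eq_sum_iff_of_le fun g _ => hle g).1 htot g (Finset.mem_univ g)
  have hsuppK : ∀ x : G, x ∉ K → wsum V x = 0 := fun x hx => by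
    by_contra h0
    exact hx ((hpt x h0).2 (heq x).symm)
  -- conclusion
  by_contra hηV
  have e : Cfsg.classInner (wsum V) (η : G → ℂ) = 0 := by rw [classInner_wsum, if_neg hηV]
  set cV := Cfsg.classInner (fun n : K => wsum V n) θ with hcV
  set e₀ := Cfsg.classInner (fun n : K => (η : G → ℂ) n) θ with he₀
  have hres := Clifford.restrict_eq_smul_of_invariant K η.2 hθ hη hinv
  have e2 : (Nat.card G : ℂ) * Cfsg.classInner (wsum V) (η : G → ℂ) =
      cV * conj e₀ * ((Nat.card K : ℂ) * Cfsg.classInner θ θ) := by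
    rw [classInner_def, classInner_def, ← mul_assoc, ← mul_assoc (Nat.card K : ℂ),
      mul_inv_cancel₀ (Nat.cast_ne_zero.2 Nat.card_pos.ne'), one_mul,
      mul_inv_cancel₀ (Nat.cast_ne_zero.2 Nat.card_pos.ne'), one_mul, Finset.mul_sum]
    symm
    refine Fintype.sum_of_injective (fun k : K => (k : G)) Subtype.val_injective _ _
      (fun x hx => ?_) (fun k => ?_)
    · rw [hsuppK x fun h => hx ⟨⟨x, h⟩, rfl⟩, zero_mul]
    · have hk := congrFun hres k
      simp only [Pi.smul_apply, smul_eq_mul] at hk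
      rw [hdeg k, hk, map_mul]
      ring
  rw [e, mul_zero, classInner_isIrr_self hθ, mul_one, eq_comm, mul_eq_zero, mul_eq_zero] at e2
  rcases e2 with (h0 | h0) | h0
  · -- the degree of the weighted sum is positive
    obtain ⟨η₀, hη₀⟩ := hne
    have h2 : wsum V ((1 : K) : G) = 0 := by rw [hdeg 1, h0, zero_mul]
    rw [OneMemClass.coe_one, wsum_one] at h2
    choose d hd0 hd using fun η : Cfsg.IrrCharacter G => irr_one_pos η.2
    have h3 : ((∑ η : Cfsg.IrrCharacter G, if η ∈ V then d η * d η else 0 : ℕ) : ℂ) = 0 := by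
      rw [← h2, Nat.cast_sum]
      exact Finset.sum_congr rfl fun η _ => by split <;> simp [hd η]
    rw [Nat.cast_eq_zero, Finset.sum_eq_zero_iff] at h3
    have h4 := h3 η₀ (Finset.mem_univ _)
    rw [if_pos hη₀, mul_eq_zero, or_self] at h4
    exact (hd0 η₀).ne' h4
  · exact hη ((map_eq_zero (starRingEnd ℂ)).1 h0)
  · exact Nat.card_pos.ne' (Nat.cast_eq_zero.1 h0)

end Cfsg.Agent.CharTheory.RegularSupport
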