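import Mathlib
import Cfsg.Agent.Lib.CharTheory.RegularSupport.Core
import Cfsg.Agent.Lib.CharTheory.RelativeM
import Cfsg.Agent.Lib.Blocks.FongReynolds
import Cfsg.Agent.Lib.PLocal.PSolvable
import Cfsg.Agent.Lib.Cores.Basic

/-!
# Degree weighted sums vanishing at the `p`-singular elements, `p`-solvable groups

A set `U` of irreducible characters of a `p`-solvable group whose degree weighted sum vanishes at
the `p`-singular elements is a union of blocks.
-/

set_option autoImplicit false
set_option linter.style.haveILetI false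
set_option linter.unusedSectionVars false

namespace Cfsg.Agent.CharTheory.RegularSupport

open Cfsg.Agent.Characters Cfsg.Agent.CharTheory Cfsg.Agent.Blocks Cfsg.Agent.Blocks.FongReynolds
open Cfsg.Agent.BlockCharsA.NormalSupport
open scoped ComplexConjugate

universe u

theorem mem_of_sameBlock_of_vanishing {p : ℕ} [hp : Fact p.Prime] {M : Ideal Cfsg.AlgInt}
    (hM : Cfsg.IsPModular p M) : ∀ (n : ℕ) (G : Type u) [Group G] [Finite G], Nat.card G ≤ n →
    Cfsg.IsPSolvable p G → ∀ U : Set (Cfsg.IrrCharacter G),
    (∀ x : G, p ∣ orderOf x → wsum U x = 0) → ∀ χ ∈ U, ∀ ψ : Cfsg.IrrCharacter G,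
    Cfsg.SameBlock M (χ : G → ℂ) (ψ : G → ℂ) → ψ ∈ U := by
  intro n
  induction n with
  | zero =>
    intro G _ _ hcard
    exact absurd hcard (Nat.not_le.2 Nat.card_pos)
  | succ n ih =>
    intro G _ _ hcard hsol U hvan χ hχ ψ hψ
    classical
    haveI := Fintype.ofFinite G
    haveI := Fintype.ofFinite (Cfsg.IrrCharacter G)
    set K := Cfsg.pPrimeCore p G with hK
    haveI : K.Normal := by rw [hK]; infer_instance
    haveI := Fintype.ofFinite K
    have hpK : ¬ p ∣ Nat.card K :=
      hp.out.coprime_iff_not_dvd.1 (Cores.pPrimeCore_card_coprime p).symm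
    obtain ⟨θ, hθ⟩ := exists_under (N := K) χ
    set T : Subgroup G := RelativeM.inertia K (θ : K → ℂ) with hT
    set b : Set (Cfsg.IrrCharacter K) := {θ} with hb'
    have hb : Cfsg.IsPBlock M b := by
      refine ⟨θ, Set.ext fun η => ⟨?_, fun h => ?_⟩⟩
      · intro h
        rw [Set.mem_singleton_iff.1 h]
        exact mem_blockOf_self hM _
      · exact (sameBlock_eq_of_coprime hM hpK h).symm
    have hs : ∀ g : G, g ∈ T ↔ ∀ η ∈ b, conjIrr g η ∈ b := by
      intro g
      simp only [hb', Set.mem_singleton_iff, forall_eq]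
      rw [Subtype.ext_iff, coe_conjIrr]
      rfl
    have hKT : K ≤ T := by
      intro k hk
      show Clifford.conjBy K k (θ : K → ℂ) = θ
      funext x
      rw [Clifford.conjBy_apply]
      exact irr_isClassFunction θ x ⟨k, hk⟩
    haveI := Fintype.ofFinite T
    haveI := Fintype.ofFinite (Cfsg.IrrCharacter T)
    -- the part of `U` over `θ`, moved to the stabiliser
    set V : Set (Cfsg.IrrCharacter T) :=
      {φ | CoversOnly hKT b (φ : T → ℂ) ∧ ∃ η ∈ U, (η : G → ℂ) = Cfsg.indFun T (φ : T → ℂ)}
    have hvanV : ∀ x : T, p ∣ orderOf x → wsum V x = 0 := by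
      intro x hx
      have hsing : ∀ k : K, p ∣ orderOf ((k : G) * x) := by
        intro k
        by_contra h
        set π := QuotientGroup.mk' K
        have h1 : orderOf (π x) ∣ orderOf ((k : G) * x) := by
          have : π x = π ((k : G) * x) := by
            rw [map_mul, show π (k : G) = 1 from (QuotientGroup.eq_one_iff _).2 k.2, one_mul]
          rw [this]
          exact orderOf_map_dvd π _
        set o := orderOf (π x) with ho
        have h2 : ((x : G)) ^ o ∈ K := by
          rw [← QuotientGroup.eq_one_iff]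
          exact (map_pow π (x : G) o).trans (pow_orderOf_eq_one _)
        have h3 : ((x : G) ^ o) ^ Nat.card K = 1 :=
          congrArg Subtype.val (pow_card_eq_one' (x := (⟨_, h2⟩ : K)))
        rw [← pow_mul] at h3
        rw [← Subgroup.orderOf_coe] at hx
        rcases hp.out.dvd_mul.1 (hx.trans (orderOf_dvd_of_pow_eq_one h3)) with h' | h'
        · exact h (h'.trans h1)
        · exact hpK h'
      have h0 : ∑ k : K, Cfsg.blockCoeff b k * wsum U ((k : G) * x) = 0 :=
        Finset.sum_eq_zero fun k _ => by rw [hvan _ (hsing k), mul_zero]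
      have hrec : ∀ (φ : Cfsg.IrrCharacter T) (η : Cfsg.IrrCharacter G),
          CoversOnly hKT b (φ : T → ℂ) → (η : G → ℂ) = Cfsg.indFun T (φ : T → ℂ) →
          ∑ k : K, Cfsg.blockCoeff b k * (η : G → ℂ) ((k : G) * x) = (φ : T → ℂ) x :=
        fun φ η hc e => by
          rw [e]
          exact sum_blockCoeff_indFun hM hb hs hKT (irr_isClassFunction φ) hc x
      have hnot : ∀ η : Cfsg.IrrCharacter G,
          Cfsg.classInner (fun m : K => (η : G → ℂ) m) (θ : K → ℂ) = 0 →
          ∑ k : K, Cfsg.blockCoeff b k * (η : G → ℂ) ((k : G) * x) = 0 := by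
        intro η hη
        set ρ : T → ℂ := (η : G → ℂ) ∘ T.subtype with hρ
        have hρc : Cfsg.IsCharacter T ρ := isCharacter_comp T.subtype (irr_isCharacter η)
        have hno : ∀ φ : Cfsg.IrrCharacter T, Cfsg.classInner ρ (φ : T → ℂ) ≠ 0 →
            ¬ CoversOnly hKT b (φ : T → ℂ) := by
          intro φ hφ hc
          obtain ⟨θ', hθ', hne⟩ := (coversOnly_iff_constituent hs hKT φ).1 hc
          rw [hb', Set.mem_singleton_iff] at hθ'
          subst hθ'
          set e : K.subgroupOf T ≃* K := Subgroup.subgroupOfEquivOfLe hKT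
          haveI := Fintype.ofFinite (K.subgroupOf T)
          have h' := Clifford.classInner_restrict_ne_zero (K.subgroupOf T) hρc φ.2
            (φ := (θ' : K → ℂ) ∘ e) (isCharacter_comp e.toMonoidHom (irr_isCharacter θ')) hφ (by
              intro h
              apply hne
              rw [← h, classInner_def, classInner_def, Nat.card_congr e.toEquiv]
              congr 1
              exact (Fintype.sum_equiv e.toEquiv _ _ fun m => rfl).symm)
          apply h'
          rw [← hη, classInner_def, classInner_def, Nat.card_congr e.toEquiv]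
          congr 1
          exact Fintype.sum_equiv e.toEquiv _ _ fun m => rfl
        have hdec : ∀ k : K, (η : G → ℂ) ((k : G) * x) = ∑ φ : Cfsg.IrrCharacter T,
            Cfsg.classInner ρ (φ : T → ℂ) * (φ : T → ℂ) (Subgroup.inclusion hKT k * x) := by
          intro k
          have h := congrFun (classFun_eq_sum (char_isClassFunction hρc))
            (Subgroup.inclusion hKT k * x)
          rw [Finset.sum_apply] at h
          exact h.trans (Finset.sum_congr rfl fun φ _ => rfl)
        rw [Finset.sum_congr rfl fun k _ => by rw [hdec k, Finset.mul_sum], Finset.sum_comm]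
        refine Finset.sum_eq_zero fun φ _ => ?_
        by_cases hφ : Cfsg.classInner ρ (φ : T → ℂ) = 0
        · simp [hφ]
        · have hω : omega (φ : T → ℂ) (stabIdem T b) = 0 :=
            (omega_stabIdem hs hKT φ).resolve_right fun h =>
              hno φ hφ ((coversOnly_iff_omega hs hKT φ).2 h)
          have h := evalChar_stabIdem_mul (b := b) hKT (φ : T → ℂ) x
          rw [evalChar_central_mul φ (central_stabIdem hs), hω, zero_mul] at h
          rw [Finset.sum_congr rfl fun k _ => by rw [mul_left_comm], ← Finset.mul_sum, ← h,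
            mul_zero]
      have hind : ∀ φ : Cfsg.IrrCharacter T, CoversOnly hKT b (φ : T → ℂ) →
          Cfsg.IsIrrCharacter G (Cfsg.indFun T (φ : T → ℂ)) := fun φ hc =>
        isIrr_indFun hM hb hs hKT φ hc
      have hmain : (T.index : ℂ) * wsum V x =
          ∑ k : K, Cfsg.blockCoeff b k * wsum U ((k : G) * x) := by
        rw [wsum_eq_sum, wsum_eq_sum]
        simp only [Finset.sum_apply, Pi.smul_apply, smul_eq_mul, Finset.mul_sum]
        rw [Finset.sum_comm (s := (Finset.univ : Finset K))]
        have hR : ∀ η : Cfsg.IrrCharacter G,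
            ∑ k : K, Cfsg.blockCoeff b k * ((if η ∈ U then (η : G → ℂ) 1 else 0) *
              (η : G → ℂ) ((k : G) * x)) = if η ∈ U then (η : G → ℂ) 1 *
              ∑ k : K, Cfsg.blockCoeff b k * (η : G → ℂ) ((k : G) * x) else 0 := by
          intro η
          split
          · rw [Finset.mul_sum]; exact Finset.sum_congr rfl fun k _ => by ring
          · simp
        simp only [hR]
        symm
        refine Finset.sum_bij_ne_zero (fun η _ hη => Classical.choose (?_ : ∃ φ : Cfsg.IrrCharacter T,
          CoversOnly hKT b (φ : T → ℂ) ∧ (η : G → ℂ) = Cfsg.indFun T (φ : T → ℂ))) ?_ ?_ ?_ ?_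
        · have hover : Cfsg.classInner (fun m : K => (η : G → ℂ) m) (θ : K → ℂ) ≠ 0 := fun h0 => by
            rw [hnot η h0, mul_zero, ite_self] at hη
            exact hη rfl
          exact exists_indFun_eq hM hb hs hKT η (Set.mem_singleton θ) hover
        · exact fun _ _ _ => Finset.mem_univ _
        · intro η₁ h₁ h₁' η₂ h₂ h₂' he
          refine Subtype.ext ?_
          rw [(Classical.choose_spec (exists_indFun_eq hM hb hs hKT η₁ (Set.mem_singleton θ)
            (fun h0 => by rw [hnot η₁ h0, mul_zero, ite_self] at h₁'; exact h₁' rfl))).2,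
            (Classical.choose_spec (exists_indFun_eq hM hb hs hKT η₂ (Set.mem_singleton θ)
            (fun h0 => by rw [hnot η₂ h0, mul_zero, ite_self] at h₂'; exact h₂' rfl))).2]
          exact congrArg (fun φ : Cfsg.IrrCharacter T => Cfsg.indFun T (φ : T → ℂ)) he
        · intro φ _ hφ
          have hφV : φ ∈ V := by
            by_contra h
            simp [h] at hφ
          obtain ⟨hc, η, hηU, e⟩ := hφV
          refine ⟨η, Finset.mem_univ _, ?_, ?_⟩
          · rw [if_pos hηU, hrec φ η hc e]
            refine mul_ne_zero (irr_one_ne_zero η.2) fun h0 => hφ ?_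
            rw [h0, mul_zero, mul_zero]
          · generalize_proofs hex
            obtain ⟨hc', e'⟩ := Classical.choose_spec hex
            exact (indFun_eq_imp hM hb hs hKT φ _ hc hc' (e.symm.trans e')).symm
        · intro η _ hη
          generalize_proofs hex
          obtain ⟨hc, e⟩ := Classical.choose_spec hex
          set φ := Classical.choose hex
          by_cases hηU : η ∈ U
          · rw [if_pos hηU, if_pos (show φ ∈ V from ⟨hc, η, hηU, e⟩), hrec φ η hc e, e,
              indFun_one, mul_assoc]
          · rw [if_neg hηU] at hη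
            exact absurd rfl hη
      rw [h0, mul_eq_zero] at hmain
      exact hmain.resolve_left (Nat.cast_ne_zero.2 Subgroup.index_ne_zero_of_finite)
    obtain ⟨φ₀, hc₀, e₀⟩ := exists_indFun_eq hM hb hs hKT χ (Set.mem_singleton θ) hθ
    have hθψ := constituent_transfer hM hpK hψ hθ
    obtain ⟨φ₁, hc₁, e₁⟩ := exists_indFun_eq hM hb hs hKT ψ (Set.mem_singleton θ) hθψ
    have hφ₀ : φ₀ ∈ V := ⟨hc₀, χ, hχ, e₀⟩
    suffices hφ₁ : φ₁ ∈ V by
      obtain ⟨-, η, hη, e⟩ := hφ₁
      rwa [show ψ = η from Subtype.ext (e₁.trans e.symm)]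
    rcases eq_or_lt_of_le (le_top : T ≤ ⊤) with htop | hlt
    · -- invariant case
      set π := QuotientGroup.mk' K with hπ
      set L : Subgroup G := (Cfsg.pCore p (G ⧸ K)).comap π with hL
      haveI : L.Normal := by
        haveI : (Cfsg.pCore p (G ⧸ K)).Normal := inferInstance
        exact hL ▸ inferInstance
      have hKL : K ≤ L := (QuotientGroup.ker_mk' K).ge.trans (MonoidHom.ker_le_comap _ _)
      set K' := K.subgroupOf T
      set L' := L.subgroupOf T
      haveI : K'.Normal := Subgroup.Normal.subgroupOf inferInstance T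
      haveI : L'.Normal := Subgroup.Normal.subgroupOf inferInstance T
      haveI := Fintype.ofFinite K'
      set e : K' ≃* K := Subgroup.subgroupOfEquivOfLe hKT
      have hmapL : L.map π = Cfsg.pCore p (G ⧸ K) := by
        rw [hL, Subgroup.map_comap_eq_self_of_surjective (QuotientGroup.mk'_surjective K)]
      have hLp : IsPGroup p (L'.map (QuotientGroup.mk' K')) := by
        set f : T ⧸ K' →* G ⧸ K := QuotientGroup.map K' K T.subtype fun x hx => hx with hf
        have hfinj : Function.Injective f := by
          rw [injective_iff_map_eq_one]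
          intro q hq
          obtain ⟨t, rfl⟩ := QuotientGroup.mk'_surjective K' q
          change QuotientGroup.mk' K (t : G) = 1 at hq
          rw [QuotientGroup.mk'_apply, QuotientGroup.eq_one_iff] at hq
          exact (QuotientGroup.eq_one_iff _).2 hq
        have hsub : (L'.map (QuotientGroup.mk' K')).map f ≤ Cfsg.pCore p (G ⧸ K) := by
          rintro _ ⟨_, ⟨l, hl, rfl⟩, rfl⟩
          exact hl
        exact ((PLocal.Cores.isPGroup_pCore (p := p) (G := G ⧸ K)).to_le hsub).of_equiv
          (Subgroup.equivMapOfInjective _ f hfinj).symm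
      have hcent : ∀ g : T, (∀ l ∈ L', l * g * l⁻¹ * g⁻¹ ∈ K') → g ∈ L' := by
        intro g hg
        show π (g : G) ∈ Cfsg.pCore p (G ⧸ K)
        refine PLocal.PSolvable.centralizer_pCore_le
          (PLocal.Cores.pPrimeCore_quotient_pPrimeCore (p := p) (G := G))
          (PLocal.PSolvable.subgroup (PLocal.PSolvable.quotient hsol K) _) ?_
        rw [Subgroup.mem_centralizer_iff]
        intro q hq
        rw [SetLike.mem_coe, ← hmapL, Subgroup.mem_map] at hq
        obtain ⟨l, hl, rfl⟩ := hq
        have h1 := hg ⟨l, htop ▸ Subgroup.mem_top l⟩ hl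
        have h2 : π (l * (g : G) * l⁻¹ * (g : G)⁻¹) = 1 := (QuotientGroup.eq_one_iff _).2 h1
        rw [map_mul, map_mul, map_mul, map_inv, map_inv, mul_inv_eq_one, mul_inv_eq_iff_eq_mul] at h2
        exact h2
      have hover : ∀ φ : Cfsg.IrrCharacter T, CoversOnly hKT b (φ : T → ℂ) →
          Cfsg.classInner (fun m : K' => (φ : T → ℂ) m) ((θ : K → ℂ) ∘ e) ≠ 0 := by
        intro φ hc h
        obtain ⟨θ', hθ', hne⟩ := (coversOnly_iff_constituent hs hKT φ).1 hc
        rw [hb', Set.mem_singleton_iff] at hθ'
        subst hθ'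
        refine hne ?_
        rw [← h, classInner_def, classInner_def, Nat.card_congr e.toEquiv]
        congr 1
        exact (Fintype.sum_equiv e.toEquiv _ _ fun m => rfl).symm
      have hpK' : ¬ p ∣ Nat.card K' := by rwa [Nat.card_congr e.toEquiv]
      exact mem_of_core L' K' (fun x hx => hKL hx) hpK' hLp hcent
        ((isIrrCharacter_comp_mulEquiv e).2 θ.2) (fun g => by
          funext m
          have h := congrFun (show Clifford.conjBy K (g : G) (θ : K → ℂ) = θ from g.2) (e m)
          rw [Clifford.conjBy_apply] at h ⊢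
          exact (congrArg (θ : K → ℂ) (Subtype.ext rfl)).trans h)
        (fun φ hφ => hover φ hφ.1) ⟨φ₀, hφ₀⟩ hvanV φ₁ (hover φ₁ hc₁)
    · have hlt' : Nat.card T ≤ n := by
        have h1 : Nat.card T < Nat.card G := by
          refine lt_of_le_of_ne (Nat.le_of_dvd Nat.card_pos (Subgroup.card_subgroup_dvd_card T))
            fun h => hlt.ne (Subgroup.eq_top_of_card_eq T h)
        omega
      refine ih T hlt' (PLocal.PSolvable.subgroup hsol T) V hvanV φ₀ hφ₀ φ₁ ?_
      refine sameBlock_of_indFun hM hb hs hKT φ₀ φ₁ hc₀ hc₁ ?_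
      rw [← e₀, ← e₁]
      exact hψ

end Cfsg.Agent.CharTheory.RegularSupport
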